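import Cfsg.Agent.ExtensionBlocks.Lift
import Cfsg.Agent.PrincipalBlock.Basic
import Cfsg.Agent.BlocksCharsC.DetExtension

/-!
# Extensions of principal block characters of normal subgroups

An extension `χ` of a character of `B₀(N)` has a multiplicative "coset character" on the
`N`-invariant part of the group algebra; twisting it away puts every restriction of the extension
to an overgroup of `N` into the principal block, when `G = N C_G(P)`.
-/

set_option autoImplicit false
set_option linter.unusedSectionVars false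

namespace CfsgLib.ExtensionBlocks

open Cfsg CfsgLib.Blocks CfsgLib.PrincipalBlock CfsgLib.Characters
open MonoidAlgebra (single)

universe u

variable {G : Type u} [Group G] [Fintype G] {N : Subgroup G} [N.Normal]

/-- The integral group algebra elements commuting with `N`. -/
noncomputable def centN (N : Subgroup G) : Subring (MonoidAlgebra ℤ G) :=
  Subring.centralizer (Set.range fun n : N => single (n : G) (1 : ℤ))

theorem mem_centN_iff {a : MonoidAlgebra ℤ G} :
    a ∈ centN N ↔ ∀ n ∈ N, ∀ x : G, a.coeff (n * x * n⁻¹) = a.coeff x := by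
  rw [centN, Subring.mem_centralizer_iff]
  constructor
  · intro h n hn x
    have h1 := congrArg (fun b : MonoidAlgebra ℤ G => b.coeff (n * x))
      (h _ ⟨⟨n, hn⟩, rfl⟩)
    simpa using h1.symm
  · rintro h _ ⟨⟨n, hn⟩, rfl⟩
    refine MonoidAlgebra.ext (Finsupp.ext fun y => ?_)
    have h1 := h n hn (n⁻¹ * y)
    simpa using h1.symm

/-- Sum of coefficients. -/
noncomputable def aug (a : MonoidAlgebra ℤ G) : ℤ := ∑ x : G, a.coeff x

theorem aug_mul (a b : MonoidAlgebra ℤ G) : aug (a * b) = aug a * aug b := by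
  simp only [aug, coeff_mul_eq_sum, Finset.sum_mul_sum]
  rw [Finset.sum_comm]
  refine Finset.sum_congr rfl fun y _ => ?_
  exact Fintype.sum_equiv (Equiv.mulLeft y⁻¹) _ _ fun x => rfl

/-- Evaluation of a function on an integral group algebra element. -/
noncomputable def ev (χ : G → ℂ) (a : MonoidAlgebra ℤ G) : ℂ := ∑ x : G, (a.coeff x : ℂ) * χ x

/-- Extensions of `θ`. -/
def Extends (N : Subgroup G) (θ : IrrCharacter N) (χ : IrrCharacter G) : Prop :=
  ∀ x : N, (χ : G → ℂ) x = (θ : N → ℂ) x

/-- A representation composed with a homomorphism. -/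
abbrev res {H V : Type*} [Group H] [AddCommGroup V] [Module ℂ V] (ρ : Representation ℂ G V)
    (i : H →* G) : Representation ℂ H V :=
  ρ.comp i

variable [Fintype N] {θ : IrrCharacter N} {χ : IrrCharacter G} (hext : Extends N θ χ)
include hext

theorem ev_eq_trace {n : ℕ} (ρ : Representation ℂ G (Fin n → ℂ)) (h : ρ.character = χ)
    (a : MonoidAlgebra ℤ G) :
    LinearMap.trace ℂ (Fin n → ℂ)
      (ρ.asAlgebraHom (MonoidAlgebra.mapRingHom G (Int.castRingHom ℂ) a)) = ev χ a := by
  rw [trace_asAlgebraHom, h, evalFun, ev]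
  exact Finset.sum_congr rfl fun x _ => by simp

theorem ev_mul (a b : centN N) :
    ev (χ : G → ℂ) ((a * b : centN N) : MonoidAlgebra ℤ G) =
      ev (χ : G → ℂ) a / (χ : G → ℂ) 1 * ev (χ : G → ℂ) b := by
  obtain ⟨n, ρ, hρ, h⟩ := χ.2
  have hres : (res ρ N.subtype).character = (θ : N → ℂ) := funext fun x => by
    rw [← hext x, ← h]; rfl
  haveI : (res ρ N.subtype).IsIrreducible := by
    rw [isIrreducible_iff_classInner, hres, classInner_isIrr_self θ.2]
  set φ := MonoidAlgebra.mapRingHom G (Int.castRingHom ℂ) with hφ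
  obtain ⟨c, hc⟩ := Characters.schur_scalar (res ρ N.subtype) (ρ.asAlgebraHom (φ a)) fun g x => by
    show ρ.asAlgebraHom (φ a) (ρ (g : G) x) = ρ (g : G) (ρ.asAlgebraHom (φ a) x)
    have h1 := Subring.mem_centralizer_iff.1 a.2 _ ⟨g, rfl⟩
    have h2 := congrArg (fun b => ρ.asAlgebraHom (φ b) x) h1
    simp only [map_mul, hφ, MonoidAlgebra.mapRingHom_single, map_one,
      Representation.asAlgebraHom_single_one, Module.End.mul_apply] at h2
    exact h2.symm
  have h1 := Characters.irr_one_ne_zero χ.2
  have hz : ev (χ : G → ℂ) a = c * (χ : G → ℂ) 1 := by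
    rw [← ev_eq_trace hext ρ h, hc, map_smul, smul_eq_mul, ← h, Representation.character, map_one]
    rfl
  rw [hz, mul_div_assoc, div_self h1, mul_one, ← ev_eq_trace hext ρ h, Subring.coe_mul, map_mul,
    map_mul, hc, smul_mul_assoc, map_smul, smul_eq_mul, ← ev_eq_trace hext ρ h]
  rfl

/-- The scalar by which elements commuting with `N` act. -/
noncomputable def scal : centN N →+* ℂ where
  toFun a := ev (χ : G → ℂ) a / (χ : G → ℂ) 1
  map_zero' := by simp [ev]
  map_one' := by
    rw [Subring.coe_one, ev, Finset.sum_eq_single (1 : G)]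
    · simp [MonoidAlgebra.one_def, Characters.irr_one_ne_zero χ.2]
    · intro x _ hx; simp [MonoidAlgebra.one_def, hx]
    · simp
  map_add' a b := by
    rw [Subring.coe_add, ← add_div, ev, ev, ev, ← Finset.sum_add_distrib]
    simp [add_mul]
  map_mul' a b := by rw [ev_mul hext]; ring

theorem isIntegral_scal (a : centN N) : IsIntegral ℤ (scal hext a) := by
  haveI : Module.Finite ℤ (centN N) :=
    Module.Finite.of_injective ((centN N).subtype.toIntAlgHom.toLinearMap) Subtype.val_injective
  exact (IsIntegral.of_finite ℤ a).map (scal hext).toIntAlgHom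

variable (M : Ideal AlgInt) [M.IsPrime]

/-- The reduction of `scal`. -/
noncomputable def scalBar : centN N →+* Res M :=
  (red M).comp ((scal hext).codRestrict (localRing M)
    fun a => memLocalRing_of_isIntegral (isIntegral_scal hext a))

variable {M}

theorem scalBar_eq_iff (a : centN N) :
    scalBar hext M a = (aug (a : MonoidAlgebra ℤ G) : Res M) ↔
      Cfsg.MemLocalIdeal M (scal hext a - (aug (a : MonoidAlgebra ℤ G) : ℂ)) := by
  show red M _ = _ ↔ _
  rw [← map_intCast (red M), red_eq_red_iff]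
  rfl

/-- Elements supported in `N` act through the principal block. -/
theorem scalBar_of_mem (hθ : θ ∈ Cfsg.principalBlock M N) (a : centN N)
    (ha : ∀ x : G, (a : MonoidAlgebra ℤ G).coeff x ≠ 0 → x ∈ N) :
    scalBar hext M a = (aug (a : MonoidAlgebra ℤ G) : Res M) := by
  classical
  set c : N → localRing M := fun x => ((a : MonoidAlgebra ℤ G).coeff x : localRing M) with hc
  let z : Ctr (localRing M) N := ⟨ofFun c, mem_ctr_iff.2 fun g h => by
    simp only [coeff_ofFun, hc, Subgroup.coe_mul, Subgroup.coe_inv]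
    rw [mem_centN_iff.1 a.2 _ h.2]⟩
  have hsum : ∀ F : G → ℂ, ∑ x : G, ((a : MonoidAlgebra ℤ G).coeff x : ℂ) * F x =
      ∑ x : N, ((a : MonoidAlgebra ℤ G).coeff x : ℂ) * F x := fun F => by
    rw [← Finset.sum_filter_add_sum_filter_not Finset.univ (· ∈ N),
      Finset.sum_eq_zero (s := Finset.univ.filter fun x => x ∉ N) (fun x hx => by
        rw [show (a : MonoidAlgebra ℤ G).coeff x = 0 by
          by_contra h; exact (Finset.mem_filter.1 hx).2 (ha x h)]; simp), add_zero,
      Finset.sum_subtype (Finset.univ.filter (· ∈ N)) (p := (· ∈ N)) (by simp)]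
  have h := DFunLike.congr_fun (mem_principalBlock_iff.1 hθ) (redCtr M z)
  rw [omegaBar_redCtr, omegaBar_redCtr, red_eq_red_iff, coe_omegaO, coe_omegaO, omega_apply,
    omega_trivChar] at h
  rw [scalBar_eq_iff]
  show Cfsg.MemLocalIdeal M (ev (χ : G → ℂ) (a : MonoidAlgebra ℤ G) / (χ : G → ℂ) 1 - _)
  rw [show (χ : G → ℂ) 1 = (θ : N → ℂ) 1 from hext 1, ev, hsum]
  have h2 : (aug (a : MonoidAlgebra ℤ G) : ℂ) = ∑ x : N, ((a : MonoidAlgebra ℤ G).coeff x : ℂ) := by
    rw [aug, Int.cast_sum]
    simpa using hsum fun _ => 1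
  rw [h2]
  convert h using 3
  · refine Finset.sum_congr rfl fun x _ => ?_
    simp [z, toC, hc, hext x]
  · simp [z, toC, hc]

omit hext

/-- `a` is supported in the coset `g N`. -/
def InCoset (a : centN N) (g : G) : Prop :=
  ∀ x : G, (a : MonoidAlgebra ℤ G).coeff x ≠ 0 → (x : G ⧸ N) = (g : G ⧸ N)

theorem InCoset.mul {a b : centN N} {g h : G} (ha : InCoset a g) (hb : InCoset b h) :
    InCoset (a * b) (g * h) := by
  intro x hx
  rw [Subring.coe_mul, coeff_mul_eq_sum] at hx
  obtain ⟨y, -, hy⟩ := Finset.exists_ne_zero_of_sum_ne_zero hx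
  have h1 := ha y (left_ne_zero_of_mul hy)
  have h2 := hb _ (right_ne_zero_of_mul hy)
  rw [QuotientGroup.mk_mul, ← h1, ← h2, ← QuotientGroup.mk_mul, mul_inv_cancel_left]

variable {p : ℕ} [Fact p.Prime]

theorem exists_witness (hM : Cfsg.IsPModular p M) (P : Sylow p N)
    (hcov : N ⊔ Subgroup.centralizer (((P : Subgroup N).map N.subtype : Subgroup G) : Set G) = ⊤)
    (g : G) : ∃ b : centN N, InCoset b g ∧ (aug (b : MonoidAlgebra ℤ G) : Res M) ≠ 0 := by
  classical
  obtain ⟨n, hn, y, hy, rfl⟩ := Subgroup.mem_sup_of_normal_left.1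
    (hcov ▸ Subgroup.mem_top g)
  set s : Finset G := Finset.univ.image fun m : N => (m : G) * y * (m : G)⁻¹ with hs
  let b : MonoidAlgebra ℤ G := ofFun fun x => if x ∈ s then 1 else 0
  have hb : b ∈ centN N := by
    refine mem_centN_iff.2 fun m hm x => ?_
    simp only [b, coeff_ofFun]
    refine if_congr ⟨fun h => ?_, fun h => ?_⟩ rfl rfl
    all_goals
      simp only [hs, Finset.mem_image, Finset.mem_univ, true_and] at h ⊢
      obtain ⟨k, hk⟩ := h
    · refine ⟨(⟨m, hm⟩ : N)⁻¹ * k, ?_⟩
      rw [Subgroup.coe_mul, Subgroup.coe_inv,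
        show x = m⁻¹ * (m * x * m⁻¹) * m by group, ← hk]
      group
    · exact ⟨⟨m, hm⟩ * k, by rw [Subgroup.coe_mul, ← hk]; group⟩
  refine ⟨⟨b, hb⟩, fun x hx => ?_, ?_⟩
  · simp only [b, coeff_ofFun, ne_eq, ite_eq_right_iff, one_ne_zero, imp_false, not_not, hs,
      Finset.mem_image, Finset.mem_univ, true_and] at hx
    obtain ⟨m, rfl⟩ := hx
    simp only [QuotientGroup.mk_mul, QuotientGroup.mk_inv,
      (QuotientGroup.eq_one_iff (N := N) _).2 m.2, (QuotientGroup.eq_one_iff (N := N) _).2 hn]
    group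
  · have haug : aug b = (s.card : ℤ) := by
      simp [aug, b]
    show (aug b : Res M) ≠ 0
    rw [haug, Int.cast_natCast, Ne, red_natCast_eq_zero_iff hM]
    intro hd
    let K : Subgroup N := (Subgroup.centralizer ({y} : Set G)).comap N.subtype
    have hcard : s.card = K.index := by
      rw [← Nat.card_eq_finsetCard, Subgroup.index_eq_card]
      refine (Nat.card_congr (Equiv.ofBijective (Quotient.lift
        (fun m : N => (⟨(m : G) * y * (m : G)⁻¹, by simp [hs]⟩ : {x // x ∈ s})) ?_) ⟨?_, ?_⟩)).symm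
      · intro m k hmk
        have h1 := QuotientGroup.leftRel_apply.1 hmk
        simp only [K, Subgroup.mem_comap, Subgroup.mem_centralizer_singleton_iff, map_mul, map_inv,
          Subgroup.coe_subtype] at h1
        refine Subtype.ext ?_
        calc (m : G) * y * (m : G)⁻¹ = m * (y * ((m : G)⁻¹ * k)) * (k : G)⁻¹ := by group
          _ = m * (((m : G)⁻¹ * k) * y) * (k : G)⁻¹ := by rw [h1]
          _ = _ := by group
      · intro q₁ q₂ h
        induction q₁ using Quotient.inductionOn with
        | _ m =>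
        induction q₂ using Quotient.inductionOn with
        | _ k =>
        refine Quotient.sound (QuotientGroup.leftRel_apply.2 ?_)
        simp only [K, Subgroup.mem_comap, Subgroup.mem_centralizer_singleton_iff, map_mul, map_inv,
          Subgroup.coe_subtype]
        have h1 : (m : G) * y * (m : G)⁻¹ = k * y * (k : G)⁻¹ := congrArg Subtype.val h
        calc (m : G)⁻¹ * k * y = (m : G)⁻¹ * (k * y * (k : G)⁻¹) * k := by group
          _ = (m : G)⁻¹ * (m * y * (m : G)⁻¹) * k := by rw [h1]
          _ = y * ((m : G)⁻¹ * k) := by group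
      · rintro ⟨x, hx⟩
        simp only [hs, Finset.mem_image, Finset.mem_univ, true_and] at hx
        obtain ⟨m, rfl⟩ := hx
        exact ⟨Quotient.mk _ m, rfl⟩
    have hPK : (P : Subgroup N) ≤ K := fun m hm => Subgroup.mem_centralizer_singleton_iff.2
      (Subgroup.mem_centralizer_iff.1 hy _ ⟨m, hm, rfl⟩)
    exact P.not_dvd_index ((hcard ▸ hd).trans (Subgroup.index_dvd_of_le hPK))

include hext in
/-- The coset character of an extension. -/
theorem exists_cosetHom (hM : Cfsg.IsPModular p M) (hθ : θ ∈ Cfsg.principalBlock M N)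
    (P : Sylow p N)
    (hcov : N ⊔ Subgroup.centralizer (((P : Subgroup N).map N.subtype : Subgroup G) : Set G) = ⊤) :
    ∃ f : G →* (Res M)ˣ, (∀ n ∈ N, f n = 1) ∧ ∀ (g : G) (a : centN N), InCoset a g →
      scalBar hext M a = (f g : Res M) * (aug (a : MonoidAlgebra ℤ G) : Res M) := by
  have hmem : ∀ {a : centN N}, InCoset a 1 →
      scalBar hext M a = (aug (a : MonoidAlgebra ℤ G) : Res M) := fun {a} ha =>
    scalBar_of_mem hext hθ a fun x hx => (QuotientGroup.eq_one_iff x).1 (by simpa using ha x hx)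
  have hprod : ∀ {a b : centN N} {g : G}, InCoset a g → InCoset b g⁻¹ →
      scalBar hext M a * scalBar hext M b =
        (aug (a : MonoidAlgebra ℤ G) : Res M) * (aug (b : MonoidAlgebra ℤ G) : Res M) := by
    intro a b g ha hb
    have h := ha.mul hb
    rw [mul_inv_cancel] at h
    rw [← map_mul, hmem h, Subring.coe_mul, aug_mul, Int.cast_mul]
  have hex : ∀ g : G, ∃ c : Res M, ∀ a : centN N, InCoset a g →
      scalBar hext M a = c * (aug (a : MonoidAlgebra ℤ G) : Res M) := by
    intro g
    obtain ⟨b, hb, hb0⟩ := exists_witness hM P hcov g⁻¹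
    obtain ⟨b', hb', hb0'⟩ := exists_witness hM P hcov g
    have hne : scalBar hext M b ≠ 0 := fun h0 => by
      have := hprod hb' hb
      rw [h0, mul_zero] at this
      exact mul_ne_zero hb0' hb0 this.symm
    refine ⟨(aug (b : MonoidAlgebra ℤ G) : Res M) / scalBar hext M b, fun a ha => ?_⟩
    rw [div_mul_eq_mul_div, eq_div_iff hne, hprod ha hb, mul_comm]
  choose fv hfv using hex
  have hmul : ∀ g h : G, fv (g * h) = fv g * fv h := by
    intro g h
    obtain ⟨a, ha, ha0⟩ := exists_witness hM P hcov g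
    obtain ⟨b, hb, hb0⟩ := exists_witness hM P hcov h
    have h1 := hfv (g * h) _ (ha.mul hb)
    rw [map_mul, hfv g a ha, hfv h b hb, Subring.coe_mul, aug_mul, Int.cast_mul] at h1
    refine mul_right_cancel₀ (mul_ne_zero ha0 hb0) (?_ : _ * (_ * _) = _)
    rw [← h1]; ring
  have hN : ∀ n ∈ N, fv n = 1 := by
    intro n hn
    obtain ⟨a, ha, ha0⟩ := exists_witness hM P hcov n
    have h1 := hfv n a ha
    rw [hmem (fun x hx => by
      rw [ha x hx, QuotientGroup.mk_one, QuotientGroup.eq_one_iff]; exact hn)] at h1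
    exact mul_right_cancel₀ ha0 (by rw [← h1, one_mul])
  let F : G →* Res M := { toFun := fv, map_one' := hN 1 N.one_mem, map_mul' := hmul }
  exact ⟨F.toHomUnits, fun n hn => Units.ext (by simpa [F] using hN n hn),
    fun g a ha => by simpa [F] using hfv g a ha⟩

/-- An extension with trivial coset character exists. -/
theorem exists_normalized (hM : Cfsg.IsPModular p M) (hθ : θ ∈ Cfsg.principalBlock M N)
    (P : Sylow p N)
    (hcov : N ⊔ Subgroup.centralizer (((P : Subgroup N).map N.subtype : Subgroup G) : Set G) = ⊤)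
    {ψ : IrrCharacter G} (hψ : Extends N θ ψ) :
    ∃ χ : IrrCharacter G, ∃ hχ : Extends N θ χ,
      ∀ a : centN N, scalBar hχ M a = (aug (a : MonoidAlgebra ℤ G) : Res M) := by
  classical
  obtain ⟨f, hfN, hf⟩ := exists_cosetHom hψ hM hθ P hcov
  obtain ⟨Λ, hΛ1, hΛ⟩ := exists_linear_lift hM f⁻¹
  obtain ⟨n, ρ, hρ, hψc⟩ := ψ.2
  obtain ⟨τ, hτ⟩ := BlocksCharsC.exists_twist Λ ρ
  have hτc : ∀ g, τ.character g = (Λ g : ℂ) * (ψ : G → ℂ) g := fun g => by
    rw [← hψc, Representation.character, hτ, map_smul, smul_eq_mul]; rfl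
  have hΛN : ∀ x : N, Λ (x : G) = 1 := fun x => hΛ1 _ (by
    rw [MonoidHom.inv_apply, hfN _ x.2, inv_one])
  haveI hirr : (res τ N.subtype).IsIrreducible := by
    rw [isIrreducible_iff_classInner, show (res τ N.subtype).character = (θ : N → ℂ) from
      funext fun x => by
        show τ.character (x : G) = _
        rw [hτc, hΛN, Units.val_one, one_mul]; exact hψ x, classInner_isIrr_self θ.2]
  let χ : IrrCharacter G := ⟨τ.character, n, τ,
    BlocksCharsC.isIrreducible_of_restrict N (ρ := res τ N.subtype) τ fun _ => rfl, rfl⟩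
  have hχ : Extends N θ χ := fun x => by
    show τ.character (x : G) = _
    rw [hτc, hΛN, Units.val_one, one_mul]; exact hψ x
  refine ⟨χ, hχ, ?_⟩
  have hcoset : ∀ (g : G) (a : centN N), InCoset a g →
      scalBar hχ M a = (aug (a : MonoidAlgebra ℤ G) : Res M) := by
    intro g a ha
    obtain ⟨hz, hred⟩ := hΛ g
    have hscal : scal hχ a = (Λ g : ℂ) * scal hψ a := by
      show ev τ.character (a : MonoidAlgebra ℤ G) / τ.character 1 = _ * (ev _ _ / _)
      rw [hτc 1, map_one, Units.val_one, one_mul, ← mul_div_assoc, ev, ev, Finset.mul_sum]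
      congr 1
      refine Finset.sum_congr rfl fun x _ => ?_
      by_cases hx : (a : MonoidAlgebra ℤ G).coeff x = 0
      · simp [hx]
      · have h1 : g⁻¹ * x ∈ N := QuotientGroup.eq.1 (ha x hx).symm
        have h2 : Λ x = Λ g := by
          have h3 := hΛN ⟨_, h1⟩
          rwa [map_mul, map_inv, inv_mul_eq_one, eq_comm] at h3
        rw [hτc, h2]
        ring
    have h2 : scalBar hχ M a = red M ⟨_, hz⟩ * scalBar hψ M a := by
      show red M _ = red M _ * red M _
      rw [← map_mul]
      exact congrArg (red M) (Subtype.ext hscal)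
    rw [h2, hred, hf g a ha, ← mul_assoc, MonoidHom.inv_apply, Units.inv_mul, one_mul]
  intro a
  let part : G ⧸ N → centN N := fun q =>
    ⟨ofFun fun x => if (x : G ⧸ N) = q then (a : MonoidAlgebra ℤ G).coeff x else 0,
      mem_centN_iff.2 fun m hm x => by
        simp only [coeff_ofFun, mem_centN_iff.1 a.2 m hm x, QuotientGroup.mk_mul,
          QuotientGroup.mk_inv, (QuotientGroup.eq_one_iff (N := N) _).2 hm, one_mul, inv_one,
          mul_one]⟩
  haveI := Fintype.ofFinite (G ⧸ N)
  have hpart : a = ∑ q, part q := Subtype.ext (MonoidAlgebra.ext (Finsupp.ext fun x => by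
    simp [part, MonoidAlgebra.coeff_sum]))
  have haug : aug (a : MonoidAlgebra ℤ G) = ∑ q, aug (part q : MonoidAlgebra ℤ G) := by
    simp only [aug, part, coeff_ofFun]
    rw [Finset.sum_comm]
    simp
  rw [haug, Int.cast_sum, hpart, map_sum]
  refine Finset.sum_congr rfl fun q _ => ?_
  obtain ⟨g, rfl⟩ := QuotientGroup.mk_surjective q
  exact hcoset g _ fun x hx => by
    by_contra hne
    simp [part, hne] at hx

/-- Restrictions of a normalized extension lie in the principal block. -/
theorem exists_restrict_mem_principalBlock {hχ : Extends N θ χ}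
    (h : ∀ a : centN N, scalBar hχ M a = (aug (a : MonoidAlgebra ℤ G) : Res M))
    {J : Type u} [Group J] [Fintype J] (i : J →* G) (hi : Function.Injective i)
    (hN : N ≤ i.range) :
    ∃ ξ : IrrCharacter J, ξ ∈ Cfsg.principalBlock M J ∧
      ∀ y : J, (ξ : J → ℂ) y = (χ : G → ℂ) (i y) := by
  classical
  obtain ⟨n, ρ, hρ, hc⟩ := χ.2
  haveI : (res ρ N.subtype).IsIrreducible := by
    rw [isIrreducible_iff_classInner, show (res ρ N.subtype).character = (θ : N → ℂ) from
      funext fun x => by rw [← hχ x, ← hc]; rfl, classInner_isIrr_self θ.2]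
  haveI : Nontrivial (Fin n → ℂ) := nontrivial_of_isIrreducible (res ρ N.subtype)
  have hirr : Representation.IsIrreducible (res ρ i) := by
    refine isIrreducible_of_forall _ fun W hW => ?_
    rcases IsSimpleOrder.eq_bot_or_eq_top (⟨W, fun m x hx => by
        obtain ⟨j, hj⟩ := hN m.2
        have := hW j x hx
        change ρ (i j) x ∈ W at this
        rw [hj] at this
        exact this⟩ : Subrepresentation (res ρ N.subtype)) with hh | hh
    · exact Or.inl (congrArg Subrepresentation.toSubmodule hh)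
    · exact Or.inr (congrArg Subrepresentation.toSubmodule hh)
  let ξ : IrrCharacter J := ⟨(res ρ i).character, n, res ρ i, hirr, rfl⟩
  have hξ : ∀ y, (ξ : J → ℂ) y = (χ : G → ℂ) (i y) := fun y => by rw [← hc]; rfl
  refine ⟨ξ, fun g => ?_, hξ⟩
  set s : Finset G := (Finset.univ.filter fun x : J => IsConj g x).image i with hs
  let a : MonoidAlgebra ℤ G := ofFun fun x => if x ∈ s then 1 else 0
  have ha : a ∈ centN N := by
    refine mem_centN_iff.2 fun m hm x => ?_
    obtain ⟨j, rfl⟩ := hN hm
    simp only [a, coeff_ofFun]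
    refine if_congr ⟨fun h' => ?_, fun h' => ?_⟩ rfl rfl
    all_goals
      simp only [hs, Finset.mem_image, Finset.mem_filter, Finset.mem_univ, true_and] at h' ⊢
      obtain ⟨k, hk, hk'⟩ := h'
    · refine ⟨j⁻¹ * k * j, hk.trans (isConj_iff.2 ⟨j⁻¹, by group⟩), ?_⟩
      rw [map_mul, map_mul, map_inv, hk']
      group
    · exact ⟨j * k * j⁻¹, hk.trans (isConj_iff.2 ⟨j, rfl⟩), by simp [hk']⟩
  have hscal : scal hχ ⟨a, ha⟩ = Cfsg.centralChar (ξ : J → ℂ) g ∧
      (aug a : ℂ) = Cfsg.centralChar (fun _ : J => (1 : ℂ)) g := by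
    have hcard : ((Finset.univ.filter fun x : J => IsConj g x).card : ℂ) =
        ((Subgroup.centralizer ({g} : Set J)).index : ℂ) := by
      rw [← natCard_class, Nat.card_eq_fintype_card, Fintype.card_subtype]
      congr 2
      ext x
      simp only [Finset.mem_filter, Finset.mem_univ, true_and, ConjClasses.mk_eq_mk_iff_isConj]
      exact isConj_comm
    constructor
    · show ev (χ : G → ℂ) a / (χ : G → ℂ) 1 = _
      rw [Cfsg.centralChar, hξ g, hξ 1, map_one]
      congr 1
      simp only [ev, a, coeff_ofFun]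
      rw [← hcard, ← nsmul_eq_mul, ← Finset.sum_const]
      simp only [apply_ite (Int.cast : ℤ → ℂ), Int.cast_one, Int.cast_zero, ite_mul, one_mul,
        zero_mul, ← Finset.sum_filter]
      rw [Finset.filter_mem_eq_inter, Finset.univ_inter, hs, Finset.sum_image fun _ _ _ _ h => hi h]
      refine Finset.sum_congr rfl fun x hx => ?_
      rw [← hξ, ← hξ]
      exact (Characters.classFunction_isConj (Characters.isClassFunction_of_isIrr ξ.2)
        (Finset.mem_filter.1 hx).2).symm
    · have h1 : aug a = (s.card : ℤ) := by simp [aug, a, coeff_ofFun]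
      rw [h1, Cfsg.centralChar, Int.cast_natCast, hs, Finset.card_image_of_injective _ hi, hcard,
        mul_one, div_one]
  have := (scalBar_eq_iff hχ ⟨a, ha⟩).1 (h _)
  rw [hscal.1] at this
  show Cfsg.MemLocalIdeal M (Cfsg.centralChar (fun _ : J => (1 : ℂ)) g - Cfsg.centralChar _ g)
  rw [← hscal.2, ← neg_sub]
  exact memLocalIdeal_neg this

end CfsgLib.ExtensionBlocks
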