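import Cfsg.Agent.Blocks.LocalRing
import Mathlib.RingTheory.RootsOfUnity.Complex
import Mathlib.RingTheory.RootsOfUnity.PrimitiveRoots

/-!
# Lifting linear characters from the residue field

A homomorphism of a finite group into the units of the residue field is the reduction of a
linear character with the same kernel.
-/

set_option autoImplicit false

namespace CfsgLib.ExtensionBlocks

open Cfsg CfsgLib.Blocks

universe u

variable {M : Ideal AlgInt} [M.IsPrime] {p : ℕ}

theorem exists_linear_lift (hM : Cfsg.IsPModular p M) {G : Type u} [Group G] [Finite G]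
    (f : G →* (Res M)ˣ) :
    ∃ Λ : G →* ℂˣ, (∀ g, f g = 1 → Λ g = 1) ∧
      ∀ g, ∃ hz : (Λ g : ℂ) ∈ localRing M, red M ⟨_, hz⟩ = (f g : Res M) := by
  classical
  haveI : Fact p.Prime := ⟨hM.1⟩
  haveI := charP_res hM
  set m := Nat.card G / p ^ (Nat.card G).factorization p with hm
  have hm0 : m ≠ 0 := (Nat.ordCompl_pos p Nat.card_pos.ne').ne'
  haveI : NeZero m := ⟨hm0⟩
  have hpm : ¬ p ∣ m := Nat.not_dvd_ordCompl hM.1 Nat.card_pos.ne'
  have hG : Nat.card G = m * p ^ (Nat.card G).factorization p :=
    (Nat.div_mul_cancel (Nat.ordProj_dvd _ p)).symm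
  have hfm : ∀ g, f g ∈ rootsOfUnity m (Res M) := fun g => by
    rw [mem_rootsOfUnity]
    have h1 : ((f g : Res M) ^ m) ^ p ^ (Nat.card G).factorization p = 1 := by
      rw [← pow_mul, ← hG, ← Units.val_pow_eq_pow_val, ← map_pow, pow_card_eq_one', map_one,
        Units.val_one]
    have h2 : ((f g : Res M) ^ m - 1) ^ p ^ (Nat.card G).factorization p = 0 := by
      rw [sub_pow_char_pow, h1, one_pow, sub_self]
    exact Units.ext (by simpa using sub_eq_zero.1 (eq_zero_of_pow_eq_zero h2))
  let r : rootsOfUnity m (localRing M) →* rootsOfUnity m (Res M) := restrictRootsOfUnity (red M) m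
  have hrinj : Function.Injective r := by
    rw [injective_iff_map_eq_one]
    intro ζ hζ
    by_contra hne
    set z : localRing M := ((ζ : (localRing M)ˣ) : localRing M) with hz
    have hz1 : z ≠ 1 := fun h => hne (Subtype.ext (Units.ext h))
    have hzm : z ^ m = 1 := by
      have := (mem_rootsOfUnity m (ζ : (localRing M)ˣ)).1 ζ.2
      rw [hz, ← Units.val_pow_eq_pow_val, this, Units.val_one]
    have hsum : ∑ i ∈ Finset.range m, z ^ i = 0 := by
      have h := geom_sum_mul z m
      rw [hzm, sub_self] at h
      exact (mul_eq_zero.1 h).resolve_right (sub_ne_zero.2 hz1)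
    have hred : red M z = 1 := congrArg
      (fun x : rootsOfUnity m (Res M) => ((x : (Res M)ˣ) : Res M)) hζ
    have := congrArg (red M) hsum
    rw [map_sum, map_zero] at this
    simp only [map_pow, hred, one_pow, Finset.sum_const, Finset.card_range, nsmul_eq_mul,
      mul_one] at this
    exact hpm ((red_natCast_eq_zero_iff hM m).1 this)
  have hprim := Complex.isPrimitiveRoot_exp m hm0
  have hmem := memLocalRing_of_isIntegral (M := M) (IsIntegral.of_pow (R := ℤ) (NeZero.pos m) (hprim.pow_eq_one ▸ isIntegral_one))
  have hprim' : IsPrimitiveRoot (⟨_, hmem⟩ : localRing M) m :=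
    IsPrimitiveRoot.of_map_of_injective (f := (localRing M).subtype) hprim Subtype.val_injective
  have hbij : Function.Bijective r := by
    rw [Nat.bijective_iff_injective_and_card]
    refine ⟨hrinj, le_antisymm (Nat.card_le_card_of_injective r hrinj) ?_⟩
    rw [hprim'.card_rootsOfUnity]
    exact card_rootsOfUnity (Res M) m
  let e := MulEquiv.ofBijective r hbij
  refine ⟨(Units.map ((localRing M).subtype : localRing M →* ℂ)).comp
    ((rootsOfUnity m (localRing M)).subtype.comp (e.symm.toMonoidHom.comp
      (f.codRestrict (rootsOfUnity m (Res M)) hfm))), fun g hg => ?_, fun g => ?_⟩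
  · have : f.codRestrict (rootsOfUnity m (Res M)) hfm g = 1 := Subtype.ext hg
    simp only [MonoidHom.comp_apply, this, map_one]
  · refine ⟨((e.symm (f.codRestrict _ hfm g) : (localRing M)ˣ) : localRing M).2, ?_⟩
    have h := e.apply_symm_apply (f.codRestrict (rootsOfUnity m (Res M)) hfm g)
    exact congrArg (fun x : rootsOfUnity m (Res M) => ((x : (Res M)ˣ) : Res M)) h

end CfsgLib.ExtensionBlocks
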